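import Groth.Agent.EtShLib.StrataTop
import Mathlib

/-! Valuative and dense lifting along immersions. -/

set_option autoImplicit false

universe u

open CategoryTheory CategoryTheory.Limits AlgebraicGeometry Topology

namespace ImmValLib

theorem hasLift {X Y : Scheme.{u}} (f : Y ⟶ X) [IsImmersion f] (S : ValuativeCommSq f)
    (h : ∃ l₀ : Spec (CommRingCat.of (IsLocalRing.ResidueField S.R)) ⟶ Y,
      l₀ ≫ f = Spec.map (CommRingCat.ofHom (IsLocalRing.residue S.R)) ≫ S.i₂) :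
    S.commSq.HasLift := by
  obtain ⟨l₀, hl₀⟩ := h
  obtain ⟨W, Z, hW, hZ, hE⟩ := f.isLocallyClosed_range
  have hc : S.i₂ (IsLocalRing.closedPoint S.R) ∈ Set.range f := by
    refine ⟨l₀ (IsLocalRing.closedPoint _), ?_⟩
    rw [← Scheme.Hom.comp_apply, hl₀, Scheme.Hom.comp_apply]
    congr 1
    exact IsLocalRing.comap_closedPoint (IsLocalRing.residue S.R)
  have hg : S.i₂ (⊥ : PrimeSpectrum S.R) ∈ Set.range f := by
    refine ⟨S.i₁ (⊥ : PrimeSpectrum S.K), ?_⟩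
    rw [← Scheme.Hom.comp_apply, S.commSq.w, Scheme.Hom.comp_apply]
    congr 1
    exact PrimeSpectrum.ext (Ideal.comap_bot_of_injective (algebraMap S.R S.K) (IsFractionRing.injective _ _))
  rw [hE] at hc hg
  have hr : Set.range S.i₂ ⊆ Set.range f := by
    rintro _ ⟨t, rfl⟩
    rw [hE]
    refine ⟨((IsLocalRing.specializes_closedPoint t).map S.i₂.continuous).mem_open hW hc.1, ?_⟩
    have ht : (⊥ : PrimeSpectrum S.R) ⤳ t := (PrimeSpectrum.le_iff_specializes _ _).1 bot_le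
    exact (ht.map S.i₂.continuous).mem_closed hZ hg.2
  haveI : IsReduced (Spec (CommRingCat.of S.R)) := inferInstance
  obtain ⟨l, hl⟩ := Groth.Agent.EtShLib.exists_lift_immersion f S.i₂ hr
  refine ⟨⟨⟨l, ?_, hl⟩⟩⟩
  rw [← cancel_mono f, Category.assoc, hl, S.commSq.w]

theorem exists_open_lift {X Y T : Scheme.{u}} (f : Y ⟶ X) [IsImmersion f] [IsReduced T] [Nonempty T]
    (s : T ⟶ X) (D : Set T) (hD : Dense D)
    (h : ∀ p ∈ D, ∃ l : Spec (T.residueField p) ⟶ Y, l ≫ f = T.fromSpecResidueField p ≫ s) :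
    ∃ U : T.Opens, (U : Set T).Nonempty ∧ ∃ l : (U : Scheme.{u}) ⟶ Y, l ≫ f = U.ι ≫ s := by
  obtain ⟨W, Z, hW, hZ, hE⟩ := f.isLocallyClosed_range
  have hD' : ∀ p ∈ D, s p ∈ W ∩ Z := fun p hp => by
    obtain ⟨l, hl⟩ := h p hp
    rw [← hE]
    refine ⟨l (IsLocalRing.closedPoint _), ?_⟩
    rw [← Scheme.Hom.comp_apply, hl, Scheme.Hom.comp_apply, Scheme.fromSpecResidueField_apply]
  have hZ' : ∀ t, s t ∈ Z := fun t =>
    (closure_minimal (fun p hp => (hD' p hp).2) (hZ.preimage s.continuous)) (hD t)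
  let U : T.Opens := ⟨s ⁻¹' W, hW.preimage s.continuous⟩
  obtain ⟨p, hp⟩ := hD.nonempty
  refine ⟨U, ⟨p, (hD' p hp).1⟩, Groth.Agent.EtShLib.exists_lift_immersion f (U.ι ≫ s) ?_⟩
  rintro _ ⟨t, rfl⟩
  rw [hE]
  exact ⟨t.2, hZ' _⟩

end ImmValLib
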